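import Cfsg.Agent.Lib.H17.SuzG24.Tables

set_option autoImplicit false
set_option maxRecDepth 100000

/-! # Relator checks for SuzG24, part 0 (generated) -/

namespace Cfsg.Agent.Lib.H17.SuzG24

open Cfsg.Spor Cfsg.Agent.Lib.H17.CosetCert Cfsg.Agent.Lib.H17.CoxGlue Cfsg.Agent.Lib.H17.SuzGlue

theorem relT0_ok : checkWord 11 2048 relT0 1782 = true := by
  decide +kernel

theorem relT1_ok : checkWord 11 2048 relT1 1782 = true := by
  decide +kernel

theorem relT2_ok : checkWord 11 2048 relT2 1782 = true := by
  decide +kernel

theorem relT3_ok : checkWord 11 2048 relT3 1782 = true := by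
  decide +kernel

theorem relT4_ok : checkWord 11 2048 relT4 1782 = true := by
  decide +kernel

theorem relT5_ok : checkWord 11 2048 relT5 1782 = true := by
  decide +kernel

theorem relT6_ok : checkWord 11 2048 relT6 1782 = true := by
  decide +kernel

theorem relT7_ok : checkWord 11 2048 relT7 1782 = true := by
  decide +kernel

theorem relT8_ok : checkWord 11 2048 relT8 1782 = true := by
  decide +kernel

theorem relT9_ok : checkWord 11 2048 relT9 1782 = true := by
  decide +kernel

theorem relT10_ok : checkWord 11 2048 relT10 1782 = true := by
  decide +kernel

theorem relT11_ok : checkWord 11 2048 relT11 1782 = true := by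
  decide +kernel

theorem relT12_ok : checkWord 11 2048 relT12 1782 = true := by
  decide +kernel

theorem relT13_ok : checkWord 11 2048 relT13 1782 = true := by
  decide +kernel

theorem relT14_ok : checkWord 11 2048 relT14 1782 = true := by
  decide +kernel

theorem relT15_ok : checkWord 11 2048 relT15 1782 = true := by
  decide +kernel

theorem relT16_ok : checkWord 11 2048 relT16 1782 = true := by
  decide +kernel

theorem relT17_ok : checkWord 11 2048 relT17 1782 = true := by
  decide +kernel

theorem relT18_ok : checkWord 11 2048 relT18 1782 = true := by
  decide +kernel

theorem relT19_ok : checkWord 11 2048 relT19 1782 = true := by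
  decide +kernel

theorem relT20_ok : checkWord 11 2048 relT20 1782 = true := by
  decide +kernel

theorem relT21_ok : checkWord 11 2048 relT21 1782 = true := by
  decide +kernel

theorem relT22_ok : checkWord 11 2048 relT22 1782 = true := by
  decide +kernel

theorem relT23_ok : checkWord 11 2048 relT23 1782 = true := by
  decide +kernel

theorem relT24_ok : checkWord 11 2048 relT24 1782 = true := by
  decide +kernel

theorem relT25_ok : checkWord 11 2048 relT25 1782 = true := by
  decide +kernel

theorem relT26_ok : checkWord 11 2048 relT26 1782 = true := by
  decide +kernel

theorem relT27_ok : checkWord 11 2048 relT27 1782 = true := by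
  decide +kernel

theorem relT28_ok : checkWord 11 2048 relT28 1782 = true := by
  decide +kernel

theorem relT29_ok : checkWord 11 2048 relT29 1782 = true := by
  decide +kernel

theorem relT30_ok : checkWord 11 2048 relT30 1782 = true := by
  decide +kernel

theorem relT31_ok : checkWord 11 2048 relT31 1782 = true := by
  decide +kernel

theorem relT32_ok : checkWord 11 2048 relT32 1782 = true := by
  decide +kernel

theorem relT33_ok : checkWord 11 2048 relT33 1782 = true := by
  decide +kernel

end Cfsg.Agent.Lib.H17.SuzG24
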